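import Cfsg.Agent.Lib.SmallGroups.Counting
import Cfsg.Agent.Lib.Perm.Basic
import Mathlib.GroupTheory.GroupAction.MultipleTransitivity
import Mathlib.GroupTheory.GroupAction.Quotient
import Mathlib.GroupTheory.Perm.Cycle.Type
import Mathlib.Tactic.Linarith

/-!
# Doubly transitive groups with an involution centraliser of constant fixity

`t` is an involution fixing `i` points such that every nontrivial element of its centraliser fixes
exactly `i` points. A double count of the pairs interchanged by the conjugates of `t`, against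
Burnside's orbit count in the centraliser, shows `|C(t)| = n - i` and that every element interchanging
two distinct points is conjugate to `t`. Hence `i ≤ 2`.
-/

set_option autoImplicit false
set_option linter.unusedSectionVars false

namespace Cfsg.Agent.Lib.ConstFix25

open MulAction

variable {G Ω : Type*} [Group G] [MulAction G Ω]

/-- The number of fixed points. -/
noncomputable def fx (Ω : Type*) {G : Type*} [Group G] [MulAction G Ω] (g : G) : ℕ :=
  Nat.card {x : Ω // g • x = x}

theorem card_offDiag (α : Type*) [Finite α] :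
    Nat.card {p : α × α // p.1 ≠ p.2} = Nat.card α * (Nat.card α - 1) := by
  classical
  have := Fintype.ofFinite α
  rw [Nat.card_congr (Equiv.subtypeProdEquivSigmaSubtype fun a b : α => a ≠ b), Nat.card_sigma]
  have : ∀ a : α, Nat.card {b // a ≠ b} = Nat.card α - 1 := fun a => by
    rw [Nat.card_eq_fintype_card, Nat.card_eq_fintype_card, Fintype.card_subtype_compl,
      Fintype.card_subtype_eq']
  simp [Nat.card_eq_fintype_card]

theorem two_apply (h2 : IsMultiplyPretransitive G Ω 2) {a b c e : Ω} (hab : a ≠ b) (hce : c ≠ e) :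
    ∃ g : G, g • a = c ∧ g • b = e :=
  is_two_pretransitive_iff.1 h2 hab hce

/-- The elements mapping one ordered pair to another form a coset of a pair stabiliser. -/
theorem card_map_pair (h2 : IsMultiplyPretransitive G Ω 2) {a b c e : Ω} (hab : a ≠ b)
    (hce : c ≠ e) :
    Nat.card {g : G // g • a = c ∧ g • b = e}
      = Nat.card ↥(stabilizer G a ⊓ stabilizer G b) := by
  obtain ⟨g0, h0a, h0b⟩ := two_apply h2 hab hce
  refine Nat.card_congr ((Equiv.mulLeft g0⁻¹).subtypeEquiv fun g => ?_)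
  simp only [Subgroup.mem_inf, mem_stabilizer_iff, Equiv.coe_mulLeft, mul_smul, inv_smul_eq_iff,
    h0a, h0b]

theorem card_map_pair' (h2 : IsMultiplyPretransitive G Ω 2) {a b c e : Ω} (hab : a ≠ b)
    (hce : c ≠ e) :
    Nat.card {g : G // g • a = c ∧ g • b = e}
      = Nat.card ↥(stabilizer G c ⊓ stabilizer G e) := by
  obtain ⟨g0, h0a, h0b⟩ := two_apply h2 hab hce
  have ha : g0⁻¹ • c = a := by rw [inv_smul_eq_iff, h0a]
  have hb : g0⁻¹ • e = b := by rw [inv_smul_eq_iff, h0b]
  refine Nat.card_congr ((Equiv.mulRight g0⁻¹).subtypeEquiv fun g => ?_)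
  simp only [Subgroup.mem_inf, mem_stabilizer_iff, Equiv.coe_mulRight, mul_smul, ha, hb]

/-- All pair stabilisers have the same order. -/
theorem card_pair_eq (h2 : IsMultiplyPretransitive G Ω 2) {a b c e : Ω} (hab : a ≠ b)
    (hce : c ≠ e) :
    Nat.card ↥(stabilizer G a ⊓ stabilizer G b) = Nat.card ↥(stabilizer G c ⊓ stabilizer G e) := by
  rw [← card_map_pair h2 hab hce, card_map_pair' h2 hab hce]

/-- `|G| = n (n - 1) |G_ab|`. -/
theorem card_group [Finite G] [Finite Ω] (h2 : IsMultiplyPretransitive G Ω 2) {a b : Ω}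
    (hab : a ≠ b) :
    Nat.card G = Nat.card {p : Ω × Ω // p.1 ≠ p.2}
      * Nat.card ↥(stabilizer G a ⊓ stabilizer G b) := by
  classical
  have := Fintype.ofFinite Ω
  let f : G → {p : Ω × Ω // p.1 ≠ p.2} := fun g =>
    ⟨(g • a, g • b), fun e => hab (MulAction.injective g e)⟩
  rw [← Nat.card_congr (Equiv.sigmaFiberEquiv f), Nat.card_sigma]
  have hf : ∀ y, Nat.card {g : G // f g = y}
      = Nat.card ↥(stabilizer G a ⊓ stabilizer G b) := by
    rintro ⟨⟨c, e⟩, hce⟩
    rw [← card_map_pair h2 hab hce]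
    exact Nat.card_congr (Equiv.subtypeEquivRight fun g => by simp [f])
  simp [hf, Nat.card_eq_fintype_card]

/-- Pairs counted by involution. -/
theorem card_moved [Finite Ω] (g : G) :
    Nat.card {x : Ω // g • x ≠ x} + fx Ω g = Nat.card Ω := by
  classical
  have := Fintype.ofFinite Ω
  rw [fx, Nat.card_eq_fintype_card, Nat.card_eq_fintype_card, Nat.card_eq_fintype_card,
    Fintype.card_subtype_compl]
  exact Nat.sub_add_cancel (Fintype.card_subtype_le _)

theorem exists_moved [FaithfulSMul G Ω] {g : G} (hg : g ≠ 1) : ∃ x : Ω, g • x ≠ x := by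
  by_contra! h
  exact hg (eq_of_smul_eq_smul fun x : Ω => by rw [h x, one_smul])

theorem mul_self_of_orderOf {u : G} (hu : orderOf u = 2) : u * u = 1 := by
  rw [← pow_two, ← hu, pow_orderOf_eq_one]

theorem ne_one_of_orderOf {u : G} (hu : orderOf u = 2) : u ≠ 1 := fun h => by
  rw [h, orderOf_one] at hu; omega

theorem smul_smul_of_orderOf {u : G} (hu : orderOf u = 2) (x : Ω) : u • u • x = x := by
  rw [← mul_smul, mul_self_of_orderOf hu, one_smul]

theorem orderOf_conj (g u : G) : orderOf (g * u * g⁻¹) = orderOf u :=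
  orderOf_injective (MulAut.conj g).toMonoidHom (MulAut.conj g).injective u

theorem orderOf_of_isConj {u v : G} (h : IsConj u v) : orderOf v = orderOf u := by
  obtain ⟨g, rfl⟩ := isConj_iff.1 h
  exact orderOf_conj g u

theorem fx_conj (g u : G) : fx Ω (g * u * g⁻¹) = fx Ω u :=
  Nat.card_congr ((MulAction.toPerm g⁻¹ : Equiv.Perm Ω).subtypeEquiv fun x => by
    rw [MulAction.toPerm_apply, mul_smul, mul_smul]
    exact ⟨fun e => by conv_rhs => rw [← e, inv_smul_smul],
      fun e => by rw [e, smul_inv_smul]⟩)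

/-- Burnside's count in the centraliser: `|C(t)|` divides `n - i`. -/
theorem card_cent_le [Finite G] [Finite Ω] [FaithfulSMul G Ω] {i : ℕ} {t : G} (ht : orderOf t = 2)
    (hC : ∀ g : G, Commute g t → g ≠ 1 → fx Ω g = i) :
    Nat.card ↥(Subgroup.centralizer ({t} : Set G)) + i ≤ Nat.card Ω := by
  classical
  have := Fintype.ofFinite Ω
  set C := Subgroup.centralizer ({t} : Set G)
  have := Fintype.ofFinite C
  have hti : fx Ω t = i := hC t (Commute.refl t) (ne_one_of_orderOf ht)
  have hin : i < Nat.card Ω := by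
    obtain ⟨x, hx⟩ := exists_moved (Ω := Ω) (ne_one_of_orderOf ht)
    have h := card_moved (Ω := Ω) t
    have : 0 < Nat.card {x : Ω // t • x ≠ x} :=
      have : Nonempty {x : Ω // t • x ≠ x} := ⟨⟨x, hx⟩⟩
      Nat.card_pos
    omega
  have hburn := sum_card_fixedBy_eq_card_orbits_mul_card_group C Ω
  rw [← Finset.add_sum_erase _ _ (Finset.mem_univ (1 : C))] at hburn
  have h1 : Fintype.card (fixedBy Ω (1 : C)) = Nat.card Ω := by
    rw [Nat.card_eq_fintype_card]
    exact Fintype.card_congr (Equiv.subtypeUnivEquiv fun x => one_smul C x)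
  have hrest : ∀ g ∈ (Finset.univ : Finset C).erase 1, Fintype.card (fixedBy Ω g) = i := by
    intro g hg
    have hg1 : (g : G) ≠ 1 := fun e => Finset.ne_of_mem_erase hg (Subtype.ext e)
    rw [← hC g (show (g : G) * t = t * g from Subgroup.mem_centralizer_singleton_iff.1 g.2) hg1,
      fx, ← Nat.card_eq_fintype_card]
    rfl
  rw [h1, Finset.sum_congr rfl hrest, Finset.sum_const, smul_eq_mul,
    Finset.card_erase_of_mem (Finset.mem_univ _), Finset.card_univ] at hburn
  set c := Fintype.card C with hc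
  have hc0 : 0 < c := Fintype.card_pos
  rw [Nat.card_eq_fintype_card (α := C), ← hc]
  have hdvd : c ∣ Nat.card Ω + (c - 1) * i := ⟨_, by rw [hburn, mul_comm]⟩
  have hsplit : Nat.card Ω + (c - 1) * i = (Nat.card Ω - i) + c * i := by
    obtain ⟨c', hc'⟩ : ∃ c', c = c' + 1 := ⟨c - 1, by omega⟩
    rw [hc', Nat.add_sub_cancel, add_mul, one_mul]
    omega
  rw [hsplit, Nat.dvd_add_left (dvd_mul_right c i)] at hdvd
  have := Nat.le_of_dvd (by omega) hdvd
  omega

/-- The equality case: `|C(t)| = n - i`, and every element interchanging two points is conjugate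
to `t`. -/
theorem core [Finite G] [Finite Ω] [FaithfulSMul G Ω] (h2 : IsMultiplyPretransitive G Ω 2) {i : ℕ}
    {t : G} (ht : orderOf t = 2) (hC : ∀ g : G, Commute g t → g ≠ 1 → fx Ω g = i) :
    Nat.card ↥(Subgroup.centralizer ({t} : Set G)) + i = Nat.card Ω ∧
      ∀ a b : Ω, a ≠ b → ∀ g : G, g • a = b → g • b = a → IsConj t g := by
  classical
  have := Fintype.ofFinite Ω
  have := Fintype.ofFinite G
  set c := Nat.card ↥(Subgroup.centralizer ({t} : Set G)) with hc
  have hle := card_cent_le (Ω := Ω) ht hC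
  obtain ⟨a0, hb0⟩ := exists_moved (Ω := Ω) (ne_one_of_orderOf ht)
  set d := Nat.card ↥(stabilizer G (t • a0) ⊓ stabilizer G a0) with hd
  let P := {p : Ω × Ω // p.1 ≠ p.2}
  let T := {x : G // IsConj t x}
  have hG : Nat.card T * c = Nat.card P * d := by
    rw [Cfsg.Agent.Lib.SmallGroups.Counting.card_isConj_mul t, card_group h2 hb0]
  have hxinv : ∀ x : T, orderOf (x : G) = 2 := fun x => by rw [orderOf_of_isConj x.2, ht]
  have hmoved : ∀ x : T, Nat.card {p : Ω // (x : G) • p ≠ p} + i = Nat.card Ω := by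
    intro x
    obtain ⟨g, hg⟩ := isConj_iff.1 x.2
    have h := card_moved (Ω := Ω) (x : G)
    rw [← hg, fx_conj, hC t (Commute.refl t) (ne_one_of_orderOf ht)] at h
    rw [← hg]
    exact h
  -- double count
  let e : (Σ x : T, {p : Ω // (x : G) • p ≠ p}) ≃ (Σ y : P, {x : T // (x : G) • y.1.1 = y.1.2}) :=
    { toFun := fun s => ⟨⟨(s.2.1, (s.1 : G) • s.2.1), fun h => s.2.2 h.symm⟩, s.1, rfl⟩
      invFun := fun s => ⟨s.2.1, s.1.1.1, fun h => s.1.2 (h.symm.trans s.2.2)⟩
      left_inv := fun s => rfl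
      right_inv := by
        rintro ⟨⟨⟨p, q⟩, hpq⟩, ⟨x, hx⟩⟩
        change (x : G) • p = q at hx
        subst hx
        rfl }
  have hS := Nat.card_congr e
  rw [Nat.card_sigma, Nat.card_sigma] at hS
  have hL : ∀ x : T, Nat.card {p : Ω // (x : G) • p ≠ p} = Nat.card Ω - i := fun x => by
    have := hmoved x
    omega
  rw [Finset.sum_congr rfl fun x _ => hL x, Finset.sum_const, Finset.card_univ, smul_eq_mul,
    ← Nat.card_eq_fintype_card] at hS
  -- fibre of a pair
  let inj : ∀ y : P, {x : T // (x : G) • y.1.1 = y.1.2} →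
      {g : G // g • y.1.1 = y.1.2 ∧ g • y.1.2 = y.1.1} := fun y x =>
    ⟨x.1.1, x.2, by
      have h := smul_smul_of_orderOf (hxinv x.1) y.1.1
      rwa [x.2] at h⟩
  have hinj : ∀ y, Function.Injective (inj y) := fun y x x' h =>
    Subtype.ext (Subtype.ext (congrArg (Subtype.val) h :))
  have hcoset : ∀ y : P, Nat.card {g : G // g • y.1.1 = y.1.2 ∧ g • y.1.2 = y.1.1} = d :=
    fun y => by rw [card_map_pair h2 y.2 y.2.symm, hd, card_pair_eq h2 y.2 hb0]
  have hfle : ∀ y ∈ (Finset.univ : Finset P),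
      Nat.card {x : T // (x : G) • y.1.1 = y.1.2} ≤ d :=
    fun y _ => (Nat.card_le_card_of_injective _ (hinj y)).trans (hcoset y).le
  have hsum := Finset.sum_le_sum hfle
  have hPd : ∑ _y : P, d = Nat.card P * d := by
    rw [Finset.sum_const, Finset.card_univ, smul_eq_mul, ← Nat.card_eq_fintype_card]
  rw [hPd, ← hS, ← hG] at hsum
  have hTpos : 0 < Nat.card T :=
    have : Nonempty T := ⟨⟨t, IsConj.refl t⟩⟩
    Nat.card_pos
  have hge : Nat.card Ω - i ≤ c := Nat.le_of_mul_le_mul_left hsum hTpos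
  refine ⟨by omega, fun a b hab g hga hgb => ?_⟩
  have heq : ∑ y : P, Nat.card {x : T // (x : G) • y.1.1 = y.1.2} = ∑ _y : P, d := by
    rw [hPd, ← hS, ← hG]
    congr 1
    omega
  have hall := (Finset.sum_eq_sum_iff_of_le hfle).1 heq ⟨(a, b), hab⟩ (Finset.mem_univ _)
  obtain ⟨x, hx⟩ := ((Nat.bijective_iff_injective_and_card (inj ⟨(a, b), hab⟩)).2
    ⟨hinj _, hall.trans (hcoset _).symm⟩).2 ⟨g, hga, hgb⟩
  have hxg : (x.1 : G) = g := congrArg Subtype.val hx
  exact hxg ▸ x.1.2

/-- The situation after the count, for all involutions simultaneously. -/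
structure Setting (G Ω : Type*) [Group G] [MulAction G Ω] (i : ℕ) : Prop where
  faithful : FaithfulSMul G Ω
  two : IsMultiplyPretransitive G Ω 2
  exists_inv : ∃ t : G, orderOf t = 2
  conj : ∀ u v : G, orderOf u = 2 → orderOf v = 2 → IsConj u v
  swap : ∀ a b : Ω, a ≠ b → ∀ g : G, g • a = b → g • b = a → orderOf g = 2
  fix : ∀ u g : G, orderOf u = 2 → Commute g u → g ≠ 1 → fx Ω g = i
  card_cent : ∀ u : G, orderOf u = 2 →
    Nat.card ↥(Subgroup.centralizer ({u} : Set G)) + i = Nat.card Ω

theorem setting [Finite G] [Finite Ω] [FaithfulSMul G Ω] (h2 : IsMultiplyPretransitive G Ω 2)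
    {i : ℕ} {t : G} (ht : orderOf t = 2) (hC : ∀ g : G, Commute g t → g ≠ 1 → fx Ω g = i) :
    Setting G Ω i := by
  obtain ⟨-, hsw⟩ := core h2 ht hC
  have hall : ∀ u : G, orderOf u = 2 → IsConj t u := fun u hu => by
    obtain ⟨a, ha⟩ := exists_moved (Ω := Ω) (ne_one_of_orderOf hu)
    exact hsw a (u • a) (Ne.symm ha) u rfl (smul_smul_of_orderOf hu a)
  have hfix : ∀ u g : G, orderOf u = 2 → Commute g u → g ≠ 1 → fx Ω g = i := by
    intro u g hu hgu hg1
    obtain ⟨k, rfl⟩ := isConj_iff.1 (hall u hu)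
    have hc : Commute (k⁻¹ * g * k) t := by
      have h := hgu.eq
      show k⁻¹ * g * k * t = t * (k⁻¹ * g * k)
      calc k⁻¹ * g * k * t = k⁻¹ * (g * (k * t * k⁻¹)) * k := by group
        _ = k⁻¹ * (k * t * k⁻¹ * g) * k := by rw [h]
        _ = t * (k⁻¹ * g * k) := by group
    have h1 : k⁻¹ * g * k ≠ 1 := fun e => hg1 (by
      have : g = k * (k⁻¹ * g * k) * k⁻¹ := by group
      rw [this, e]; group)
    rw [← hC _ hc h1, ← fx_conj k (k⁻¹ * g * k)]
    congr 1
    group
  exact ⟨inferInstance, h2, ⟨t, ht⟩, fun u v hu hv => (hall u hu).symm.trans (hall v hv),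
    fun a b hab g hga hgb => (orderOf_of_isConj (hsw a b hab g hga hgb)).trans ht,
    hfix, fun u hu => (core h2 hu fun g => hfix u g hu).1⟩

namespace Setting

variable {i : ℕ} (S : Setting G Ω i)
include S

theorem exists_swap {a b : Ω} (hab : a ≠ b) :
    ∃ w : G, orderOf w = 2 ∧ w • a = b ∧ w • b = a := by
  obtain ⟨w, hwa, hwb⟩ := two_apply S.two hab hab.symm
  exact ⟨w, S.swap a b hab w hwa hwb, hwa, hwb⟩

/-- An element interchanging two points inverts their pair stabiliser. -/
theorem inverts {a b : Ω} (hab : a ≠ b) {w d : G} (hwa : w • a = b) (hwb : w • b = a)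
    (hda : d • a = a) (hdb : d • b = b) : w * d * w⁻¹ = d⁻¹ := by
  have h := mul_self_of_orderOf (S.swap a b hab (w * d) (by rw [mul_smul, hda, hwa])
    (by rw [mul_smul, hdb, hwb]))
  have hw := mul_self_of_orderOf (S.swap a b hab w hwa hwb)
  rw [inv_eq_of_mul_eq_one_right hw]
  exact eq_inv_of_mul_eq_one_left (by simpa [mul_assoc] using h)

/-- Pair stabilisers are abelian. -/
theorem pair_comm {a b : Ω} (hab : a ≠ b) {d e : G} (hda : d • a = a) (hdb : d • b = b)
    (hea : e • a = a) (heb : e • b = b) : d * e = e * d := by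
  obtain ⟨w, -, hwa, hwb⟩ := S.exists_swap hab
  have h1 := S.inverts hab hwa hwb hda hdb
  have h2 := S.inverts hab hwa hwb hea heb
  have h3 := S.inverts hab hwa hwb (d := d * e) (by rw [mul_smul, hea, hda])
    (by rw [mul_smul, heb, hdb])
  have h4 : d⁻¹ * e⁻¹ = (d * e)⁻¹ := by
    rw [← h1, ← h2, ← h3]; group
  have h5 := congrArg (fun z => z⁻¹) h4
  simp only [mul_inv_rev, inv_inv] at h5
  exact h5.symm

/-- The number of involutions times a centraliser order. -/
theorem card_involutions_mul [Finite G] [Finite Ω] {u : G} (hu : orderOf u = 2) {a b : Ω}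
    (hab : a ≠ b) :
    Nat.card {x : G // orderOf x = 2} * Nat.card ↥(Subgroup.centralizer ({u} : Set G))
      = Nat.card {p : Ω × Ω // p.1 ≠ p.2} * Nat.card ↥(stabilizer G a ⊓ stabilizer G b) := by
  rw [← card_group S.two hab, ← Cfsg.Agent.Lib.SmallGroups.Counting.card_isConj_mul u]
  congr 1
  exact Nat.card_congr (Equiv.subtypeEquivRight fun x =>
    ⟨fun hx => S.conj u x hu hx, fun h => (orderOf_of_isConj h).trans hu⟩)

/-- A swap of two fixed points of an involution commutes with it. -/
theorem commute_swap {u w : G} (hu : orderOf u = 2) {a b : Ω} (hab : a ≠ b) (hua : u • a = a)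
    (hub : u • b = b) (hwa : w • a = b) (hwb : w • b = a) : Commute w u := by
  have h := S.inverts hab hwa hwb hua hub
  rw [inv_eq_of_mul_eq_one_right (mul_self_of_orderOf hu), mul_inv_eq_iff_eq_mul] at h
  exact h

end Setting

end Cfsg.Agent.Lib.ConstFix25
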