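import Cfsg.Agent.Lib.ConstFix25.Small
import Cfsg.Agent.Lib.OddOrder.FeitThompson
import Cfsg.Agent.Lib.Perm.Sharply2
import Cfsg.Agent.S0215
import Cfsg.Agent.S0339

/-!
# Three fixed points force a regular normal subgroup

With `i ≤ 1`, an element `g ≠ 1` with three fixed points is inverted by every involution fixing one
of them, so distinct involutions never commute; by the `Z*`-theorem there is a normal subgroup of odd
order, hence an abelian, regular one.
-/

set_option autoImplicit false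
set_option linter.unusedSectionVars false

namespace Cfsg.Agent.Lib.ConstFix25

open MulAction

variable {G Ω : Type*} [Group G] [MulAction G Ω]

/-- A regular normal subgroup, stated on elements. -/
def HasRegularNormal (G Ω : Type*) [Group G] [MulAction G Ω] : Prop :=
  ∃ R : Subgroup G, R.Normal ∧ (∀ x y : Ω, ∃ r ∈ R, r • x = y) ∧
    ∀ x : Ω, ∀ r ∈ R, r • x = x → r = 1

theorem hasRegularNormal_of {R : Subgroup G} (hR : R.Normal) [IsPretransitive R Ω]
    (h : ∀ x : Ω, stabilizer R x = ⊥) : HasRegularNormal G Ω := by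
  refine ⟨R, hR, fun x y => ?_, fun x r hr hrx => ?_⟩
  · obtain ⟨r, hr⟩ := exists_smul_eq R x y
    exact ⟨r, r.2, hr⟩
  · have : (⟨r, hr⟩ : R) ∈ stabilizer R x := hrx
    rw [h x, Subgroup.mem_bot] at this
    exact congrArg Subtype.val this

/-- A nontrivial normal solvable subgroup contains a nontrivial normal abelian one. -/
theorem exists_abelian_normal_le {N : Subgroup G} [hNn : N.Normal] [Group.IsSolvable N]
    (hN : N ≠ ⊥) :
    ∃ A : Subgroup G, A.Normal ∧ A ≠ ⊥ ∧ IsMulCommutative A := by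
  classical
  have hex : ∃ n, derivedSeries N n = ⊥ := Group.IsSolvable.solvable
  obtain ⟨m, hm⟩ : ∃ m, Nat.find hex = m + 1 := ⟨Nat.find hex - 1, by
    have : Nat.find hex ≠ 0 := fun h => by
      have h' := Nat.find_spec hex
      rw [h, derivedSeries_zero] at h'
      exact hN (Subgroup.eq_bot_iff_forall _ |>.2 fun x hx =>
        congrArg Subtype.val ((Subgroup.eq_bot_iff_forall _).1 h' ⟨x, hx⟩ trivial))
    omega⟩
  have hbot : ⁅derivedSeries N m, derivedSeries N m⁆ = ⊥ := by
    rw [← derivedSeries_succ, ← hm]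
    exact Nat.find_spec hex
  have hne : derivedSeries N m ≠ ⊥ := fun h => Nat.find_min hex (by omega) h
  refine ⟨(derivedSeries N m).map N.subtype, inferInstance, fun h => hne ?_, ?_⟩
  · exact (Subgroup.map_eq_bot_iff_of_injective _ Subtype.coe_injective).1 h
  · refine ⟨⟨fun x y => ?_⟩⟩
    obtain ⟨x', hx, hx'⟩ := x.2
    obtain ⟨y', hy, hy'⟩ := y.2
    have hc := (Subgroup.commutator_eq_bot_iff_le_centralizer.1 hbot) hy
    rw [Subgroup.mem_centralizer_iff] at hc
    refine Subtype.ext ?_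
    simp only [Subgroup.coe_mul, ← hx', ← hy', ← map_mul]
    exact congrArg _ (hc x' hx)

namespace Setting

variable {i : ℕ} (S : Setting G Ω i)
include S

theorem preprimitive : IsPreprimitive G Ω := isPreprimitive_of_is_two_pretransitive S.two

/-- An abelian normal nontrivial subgroup is regular. -/
theorem hasRegularNormal_of_comm {A : Subgroup G} [hA : A.Normal] (hne : A ≠ ⊥)
    (hc : IsMulCommutative A) : HasRegularNormal G Ω := by
  have := S.faithful
  have := S.preprimitive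
  have := Cfsg.Agent.Lib.Perm.Basic.isPretransitive_of_normal_ne_bot (α := Ω) A hne
  exact hasRegularNormal_of hA fun x =>
    Cfsg.Agent.Lib.Perm.Basic.stabilizer_eq_bot_of_comm_transitive A hc x

theorem fx_ge_two_of_pair [Finite Ω] {g : G} {a b : Ω} (hab : a ≠ b) (ha : g • a = a)
    (hb : g • b = b) : 2 ≤ fx Ω g := by
  classical
  have := Fintype.ofFinite Ω
  rw [fx, Nat.card_eq_fintype_card]
  exact Fintype.one_lt_card_iff.2 ⟨⟨a, ha⟩, ⟨b, hb⟩, fun h => hab (congrArg Subtype.val h)⟩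

theorem fx_ge_three [Finite Ω] {g : G} {a b c : Ω} (hab : a ≠ b) (hbc : b ≠ c) (hac : a ≠ c)
    (ha : g • a = a) (hb : g • b = b) (hc : g • c = c) : 3 ≤ fx Ω g := by
  classical
  have := Fintype.ofFinite Ω
  rw [fx, Nat.card_eq_fintype_card]
  exact Fintype.two_lt_card_iff.2 ⟨⟨a, ha⟩, ⟨b, hb⟩, ⟨c, hc⟩, fun h => hab (congrArg Subtype.val h),
    fun h => hac (congrArg Subtype.val h), fun h => hbc (congrArg Subtype.val h)⟩

section ThreeFixed

variable [Finite G] [Finite Ω] {g : G} (hg : g ≠ 1) (h3 : 3 ≤ fx Ω g)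
include hg h3

theorem fixity_le_one : i ≤ 1 := by
  classical
  by_contra hi
  have hi2 : i = 2 := by
    have := S.le_two
    omega
  obtain ⟨t, ht⟩ := S.exists_inv
  obtain ⟨⟨p, hp⟩, ⟨q, hq⟩, hpq⟩ : ∃ x y : {x : Ω // t • x = x}, x ≠ y := by
    have := Fintype.ofFinite {x : Ω // t • x = x}
    have h : 1 < Fintype.card {x : Ω // t • x = x} := by
      rw [← Nat.card_eq_fintype_card, show Nat.card {x : Ω // t • x = x} = i from S.fx_inv ht]
      omega
    exact Fintype.one_lt_card_iff.1 h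
  have hpq' : p ≠ q := fun h => hpq (Subtype.ext h)
  obtain ⟨⟨a, ha⟩, ⟨b, hb⟩, hab⟩ : ∃ x y : {x : Ω // g • x = x}, x ≠ y := by
    have := Fintype.ofFinite {x : Ω // g • x = x}
    have h : 1 < Fintype.card {x : Ω // g • x = x} := by
      rw [← Nat.card_eq_fintype_card]
      exact lt_of_lt_of_le (by norm_num) h3
    exact Fintype.one_lt_card_iff.1 h
  have hab' : a ≠ b := fun h => hab (Subtype.ext h)
  obtain ⟨k, hka, hkb⟩ := two_apply S.two hpq' hab'
  have hu : orderOf (k * t * k⁻¹) = 2 := by rw [orderOf_conj, ht]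
  have hua : (k * t * k⁻¹) • a = a := by
    conv_lhs => rw [← hka, mul_smul, mul_smul, inv_smul_smul, hp, hka]
  have hub : (k * t * k⁻¹) • b = b := by
    conv_lhs => rw [← hkb, mul_smul, mul_smul, inv_smul_smul, hq, hkb]
  have := S.fix _ g hu (S.pair_comm hab' ha hb hua hub) hg
  omega

/-- The centraliser of `g` is transitive on the fixed points of `g`. -/
theorem cent_transitive {x y : Ω} (hx : g • x = x) (hy : g • y = y) :
    ∃ k : G, Commute k g ∧ k • x = y := by
  classical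
  by_cases hxy : x = y
  · exact ⟨1, Commute.one_left g, by rw [one_smul, hxy]⟩
  obtain ⟨z, hz, hzx, hzy⟩ : ∃ z, g • z = z ∧ z ≠ x ∧ z ≠ y := by
    by_contra! h
    have hsub : {z : Ω | g • z = z} ⊆ {x, y} := fun z hz => by
      by_cases hzx : z = x
      · exact Or.inl hzx
      · exact Or.inr (h z hz hzx)
    have h1 := (Set.ncard_le_ncard hsub (Set.toFinite _)).trans (Set.ncard_pair hxy).le
    rw [← Nat.card_coe_set_eq] at h1
    exact absurd (h3.trans h1) (by omega)
  obtain ⟨w, -, hwx, hwz⟩ := S.exists_swap (Ne.symm hzx)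
  obtain ⟨w', -, hwz', hwy⟩ := S.exists_swap hzy
  refine ⟨w' * w, ?_, by rw [mul_smul, hwx, hwz']⟩
  have h1 := S.inverts (Ne.symm hzx) hwx hwz hx hz
  have h2 := S.inverts hzy hwz' hwy hz hy
  show w' * w * g = g * (w' * w)
  calc w' * w * g = w' * (w * g * w⁻¹) * w := by group
    _ = (w' * g * w'⁻¹)⁻¹ * (w' * w) := by rw [h1]; group
    _ = g * (w' * w) := by rw [h2, inv_inv]

omit hg in
theorem no_invol_commute (hi : i ≤ 1) (hg : g ≠ 1) {v : G} (hv : orderOf v = 2) :
    ¬ Commute g v := fun h => by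
  have := S.fix v g hv h hg
  omega

/-- The number of fixed points of `g` is odd. -/
theorem odd_fixed : Odd (fx Ω g) := by
  classical
  have hi := S.fixity_le_one hg h3
  set L := Subgroup.centralizer ({g} : Set G)
  have hodd : Odd (Nat.card L) := by
    by_contra h
    have := Fact.mk Nat.prime_two
    obtain ⟨v, hv⟩ := exists_prime_orderOf_dvd_card' 2 (Nat.not_odd_iff_even.1 h).two_dvd
    exact S.no_invol_commute h3 hi hg (v := (v : G)) (by rw [Subgroup.orderOf_coe, hv])
      (Subgroup.mem_centralizer_singleton_iff.1 v.2).symm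
  obtain ⟨⟨a, ha⟩⟩ : Nonempty {x : Ω // g • x = x} :=
    (Nat.card_pos_iff.1 (lt_of_lt_of_le (by norm_num) h3)).1
  have horb : orbit L a = {x : Ω | g • x = x} := by
    ext x
    constructor
    · rintro ⟨⟨k, hk⟩, rfl⟩
      show g • k • a = k • a
      rw [← mul_smul, ← Subgroup.mem_centralizer_singleton_iff.1 hk, mul_smul, ha]
    · intro hx
      obtain ⟨k, hk, hkx⟩ := S.cent_transitive hg h3 ha hx
      exact ⟨⟨k, Subgroup.mem_centralizer_singleton_iff.2 hk⟩, hkx⟩
  have h := Nat.card_congr (orbitProdStabilizerEquivGroup L a)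
  rw [Nat.card_prod, horb] at h
  rw [← h, Nat.odd_mul] at hodd
  exact hodd.1

/-- An involution preserving the fixed points of `g` fixes one of them. -/
theorem exists_fixed_of_preserves {s : G} (hs : orderOf s = 2)
    (hp : ∀ z : Ω, g • z = z → g • s • z = s • z) : ∃ z : Ω, g • z = z ∧ s • z = z := by
  classical
  have := Fintype.ofFinite {x : Ω // g • x = x}
  have := Fact.mk Nat.prime_two
  let f : Function.End {x : Ω // g • x = x} := fun z => ⟨s • z.1, hp z.1 z.2⟩
  have hf : f ^ (2 ^ 1) = 1 := by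
    rw [pow_one, pow_two]
    funext z
    exact Subtype.ext (smul_smul_of_orderOf hs z.1)
  have h := Equiv.Perm.card_fixedPoints_modEq hf
  have hodd := Nat.odd_iff.1 (S.odd_fixed hg h3)
  rw [fx, Nat.card_eq_fintype_card] at hodd
  have hpos : 0 < Fintype.card f.fixedPoints := by
    rw [Nat.ModEq, hodd] at h
    omega
  obtain ⟨⟨z, hz⟩⟩ := Fintype.card_pos_iff.1 hpos
  exact ⟨z.1, z.2, congrArg Subtype.val hz⟩

omit hg h3 in
theorem preserves_of_inverts {s : G} (h : s * g * s⁻¹ = g⁻¹) (z : Ω) (hz : g • z = z) :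
    g • s • z = s • z := by
  have e : g * s = s * g⁻¹ := by
    have h' : g = s * g⁻¹ * s⁻¹ := by
      calc g = (g⁻¹)⁻¹ := (inv_inv g).symm
        _ = (s * g * s⁻¹)⁻¹ := by rw [h]
        _ = s * g⁻¹ * s⁻¹ := by group
    calc g * s = s * g⁻¹ * s⁻¹ * s := by rw [← h']
      _ = s * g⁻¹ := by group
  rw [← mul_smul, e, mul_smul, inv_smul_eq_iff.2 hz.symm]

theorem fixity_eq_one : i = 1 := by
  classical
  have hi := S.fixity_le_one hg h3
  obtain ⟨⟨a, ha⟩, ⟨b, hb⟩, hab⟩ : ∃ x y : {x : Ω // g • x = x}, x ≠ y := by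
    have := Fintype.ofFinite {x : Ω // g • x = x}
    have h : 1 < Fintype.card {x : Ω // g • x = x} := by
      rw [← Nat.card_eq_fintype_card]
      exact lt_of_lt_of_le (by norm_num) h3
    exact Fintype.one_lt_card_iff.1 h
  have hab' : a ≠ b := fun h => hab (Subtype.ext h)
  obtain ⟨w, hw, hwa, hwb⟩ := S.exists_swap hab'
  obtain ⟨z, -, hz⟩ := S.exists_fixed_of_preserves hg h3 hw
    (S.preserves_of_inverts (S.inverts hab' hwa hwb ha hb))
  have : 0 < fx Ω w :=
    have : Nonempty {x : Ω // w • x = x} := ⟨⟨z, hz⟩⟩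
    Nat.card_pos
  rw [S.fx_inv hw] at this
  omega

omit hg h3 in
theorem subsingleton_fixed (hi : i = 1) {s : G} (hs : orderOf s = 2) {x y : Ω} (hx : s • x = x)
    (hy : s • y = y) : x = y := by
  by_contra h
  have := S.fx_ge_two_of_pair h hx hy
  rw [S.fx_inv hs] at this
  omega

omit hg h3 in
/-- With one fixed point each, `d` involutions fix a given point. -/
theorem card_fixing (hi : i = 1) {a b : Ω} (hab : a ≠ b) (x : Ω) :
    Nat.card {s : {s : G // orderOf s = 2} // (s : G) • x = x}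
      = Nat.card ↥(stabilizer G a ⊓ stabilizer G b) := by
  classical
  have := Fintype.ofFinite Ω
  have := Fintype.ofFinite G
  set d := Nat.card ↥(stabilizer G a ⊓ stabilizer G b)
  set T := {s : G // orderOf s = 2}
  obtain ⟨t, ht⟩ := S.exists_inv
  have h := S.card_involutions_mul ht hab
  have hc := S.card_cent t ht
  rw [hi] at hc
  rw [card_offDiag] at h
  have hn : 2 ≤ Nat.card Ω := by
    rw [Nat.card_eq_fintype_card]
    exact Fintype.one_lt_card_iff.2 ⟨a, b, hab⟩
  rw [show Nat.card ↥(Subgroup.centralizer ({t} : Set G)) = Nat.card Ω - 1 by omega] at h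
  have hT : Nat.card T = Nat.card Ω * d :=
    Nat.eq_of_mul_eq_mul_right (by omega : 0 < Nat.card Ω - 1) (h.trans (by ring))
  -- fibres over the fixed point
  have hun : ∀ s : T, ∃ z : Ω, (s : G) • z = z := fun s => by
    have h1 : 0 < Nat.card {z : Ω // (s : G) • z = z} := by
      rw [show Nat.card {z : Ω // (s : G) • z = z} = i from S.fx_inv s.2]
      omega
    obtain ⟨⟨z, hz⟩⟩ := (Nat.card_pos_iff.1 h1).1
    exact ⟨z, hz⟩
  choose z hz using hun
  have hconst : ∀ y : Ω, Nat.card {s : T // (s : G) • y = y}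
      = Nat.card {s : T // (s : G) • x = x} := by
    intro y
    have := isPretransitive_of_is_two_pretransitive (h2 := S.two)
    obtain ⟨k, hk⟩ := exists_smul_eq G y x
    refine Nat.card_congr (Equiv.subtypeEquiv (((MulAut.conj k).toEquiv).subtypeEquiv fun s => by
      show orderOf s = 2 ↔ orderOf (k * s * k⁻¹) = 2
      rw [orderOf_conj]) fun s => ?_)
    show (s : G) • y = y ↔ (k * (s : G) * k⁻¹) • x = x
    rw [← hk, mul_smul, mul_smul, inv_smul_smul, smul_left_cancel_iff]
  have hsig := Nat.card_congr (Equiv.sigmaFiberEquiv z)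
  rw [Nat.card_sigma] at hsig
  have hfib : ∀ y, Nat.card {s : T // z s = y} = Nat.card {s : T // (s : G) • x = x} := fun y => by
    rw [← hconst y]
    exact Nat.card_congr (Equiv.subtypeEquivRight fun s =>
      ⟨fun e => e ▸ hz s, fun e => S.subsingleton_fixed hi s.2 (hz s) e⟩)
  simp only [hfib, Finset.sum_const, Finset.card_univ, smul_eq_mul,
    ← Nat.card_eq_fintype_card] at hsig
  rw [hT] at hsig
  exact Nat.eq_of_mul_eq_mul_left (by omega) hsig

/-- Every involution fixing a fixed point of `g` inverts `g`. -/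
theorem inverts_of_fixes {a : Ω} (ha : g • a = a) {v : G} (hv : orderOf v = 2) (hva : v • a = a) :
    v * g * v⁻¹ = g⁻¹ := by
  classical
  have hi := S.fixity_eq_one hg h3
  have := Fintype.ofFinite Ω
  have := Fintype.ofFinite G
  set F := {x : Ω // g • x = x}
  set T := {s : G // orderOf s = 2}
  let I := {s : T // (s : G) * g * (s : G)⁻¹ = g⁻¹}
  have hf : fx Ω g = Nat.card F := rfl
  obtain ⟨⟨b, hb⟩, hba⟩ : ∃ x : F, x.1 ≠ a := by
    by_contra! h
    have : Subsingleton F := ⟨fun p q => Subtype.ext ((h p).trans (h q).symm)⟩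
    have := Finite.card_le_one_iff_subsingleton.2 this
    omega
  set d := Nat.card ↥(stabilizer G a ⊓ stabilizer G b) with hd
  have hab : a ≠ b := Ne.symm hba
  have hFix : ∀ s : I, ∃ z : F, (s.1 : G) • z.1 = z.1 := fun s => by
    obtain ⟨z, hz, hsz⟩ := S.exists_fixed_of_preserves hg h3 s.1.2 (S.preserves_of_inverts s.2)
    exact ⟨⟨z, hz⟩, hsz⟩
  choose z hz using hFix
  let e : (Σ s : I, {x : F // x ≠ z s}) ≃
      (Σ y : {p : F × F // p.1 ≠ p.2},
        {k : G // k • y.1.1.1 = y.1.2.1 ∧ k • y.1.2.1 = y.1.1.1}) :=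
    { toFun := fun s => ⟨⟨(s.2.1, ⟨(s.1.1 : G) • s.2.1.1, S.preserves_of_inverts s.1.2 _ s.2.1.2⟩),
          fun h => s.2.2 (Subtype.ext (S.subsingleton_fixed hi s.1.1.2
            (congrArg Subtype.val h).symm (hz s.1)))⟩,
        s.1.1.1, rfl, smul_smul_of_orderOf s.1.1.2 _⟩
      invFun := fun s =>
        let hne : s.1.1.1.1 ≠ s.1.1.2.1 := fun h => s.1.2 (Subtype.ext h)
        let k : I := ⟨⟨s.2.1, S.swap _ _ hne _ s.2.2.1 s.2.2.2⟩,
          S.inverts hne s.2.2.1 s.2.2.2 s.1.1.1.2 s.1.1.2.2⟩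
        ⟨k, s.1.1.1, fun h => hne (by
          conv_lhs => rw [h, ← hz k, ← h]
          exact s.2.2.1)⟩
      left_inv := fun s => rfl
      right_inv := by
        rintro ⟨⟨⟨⟨p, hp⟩, ⟨q, hq⟩⟩, hpq⟩, ⟨k, hk1, hk2⟩⟩
        change k • p = q at hk1
        subst hk1
        rfl }
  have hcount := Nat.card_congr e
  rw [Nat.card_sigma, Nat.card_sigma] at hcount
  have hL : ∀ s : I, Nat.card {x : F // x ≠ z s} = fx Ω g - 1 := fun s => by
    rw [hf, Nat.card_eq_fintype_card, Nat.card_eq_fintype_card, Fintype.card_subtype_compl,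
      Fintype.card_subtype_eq]
  have hR : ∀ y : {p : F × F // p.1 ≠ p.2},
      Nat.card {k : G // k • y.1.1.1 = y.1.2.1 ∧ k • y.1.2.1 = y.1.1.1} = d := fun y => by
    have hne : y.1.1.1 ≠ y.1.2.1 := fun h => y.2 (Subtype.ext h)
    rw [card_map_pair S.two hne hne.symm, hd, card_pair_eq S.two hne hab]
  simp only [hL, hR, Finset.sum_const, Finset.card_univ, smul_eq_mul,
    ← Nat.card_eq_fintype_card, card_offDiag, ← hf] at hcount
  have hI : Nat.card I = fx Ω g * d :=
    Nat.eq_of_mul_eq_mul_right (by omega : 0 < fx Ω g - 1) (hcount.trans (by ring))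
  have hsig := Nat.card_congr (Equiv.sigmaFiberEquiv z)
  rw [Nat.card_sigma, hI] at hsig
  let inj : ∀ y : F, {s : I // z s = y} → {s : T // (s : G) • y.1 = y.1} := fun y s =>
    ⟨s.1.1, by rw [← congrArg Subtype.val s.2]; exact hz s.1⟩
  have hinj : ∀ y, Function.Injective (inj y) := fun y s s' h =>
    Subtype.ext (Subtype.ext (congrArg Subtype.val h :))
  have hle : ∀ y ∈ (Finset.univ : Finset F), Nat.card {s : I // z s = y} ≤ d := fun y _ =>
    (Nat.card_le_card_of_injective _ (hinj y)).trans (S.card_fixing hi hab y.1).le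
  have heq : ∑ y : F, Nat.card {s : I // z s = y} = ∑ _y : F, d := by
    rw [hsig, Finset.sum_const, Finset.card_univ, smul_eq_mul, hf, Nat.card_eq_fintype_card]
  have hall := (Finset.sum_eq_sum_iff_of_le hle).1 heq ⟨a, ha⟩ (Finset.mem_univ _)
  obtain ⟨s, hs⟩ := ((Nat.bijective_iff_injective_and_card (inj ⟨a, ha⟩)).2
    ⟨hinj _, hall.trans (S.card_fixing hi hab a).symm⟩).2 ⟨⟨v, hv⟩, hva⟩
  have hsv : ((s.1.1 : T) : G) = v := congrArg (fun p => (p.1 : G)) hs
  exact hsv ▸ s.1.2

/-- Distinct involutions do not commute. -/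
theorem eq_of_commute {u v : G} (hu : orderOf u = 2) (hv : orderOf v = 2) (huv : Commute u v) :
    u = v := by
  classical
  by_contra hne
  have hi := S.fixity_eq_one hg h3
  obtain ⟨⟨p, hp⟩⟩ : Nonempty {x : Ω // u • x = x} :=
    (Nat.card_pos_iff.1 (by
      rw [show Nat.card {x : Ω // u • x = x} = i from S.fx_inv hu, hi]; norm_num)).1
  have hvp : v • p = p := by
    refine S.subsingleton_fixed hi hu ?_ hp
    rw [← mul_smul, huv.eq, mul_smul, hp]
  obtain ⟨⟨a, ha⟩⟩ : Nonempty {x : Ω // g • x = x} :=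
    (Nat.card_pos_iff.1 (lt_of_lt_of_le (by norm_num) h3)).1
  have := isPretransitive_of_is_two_pretransitive (h2 := S.two)
  obtain ⟨k, hk⟩ := exists_smul_eq G p a
  have hmove : ∀ w : G, w • p = p → (k * w * k⁻¹) • a = a := fun w hw => by
    rw [← hk, mul_smul, mul_smul, inv_smul_smul, hw]
  have huv1 : u * v ≠ 1 := fun h => hne (by
    rw [← inv_eq_of_mul_eq_one_right h, inv_eq_of_mul_eq_one_right (mul_self_of_orderOf hu)])
  have huv2 : orderOf (u * v) = 2 := by
    refine orderOf_eq_prime ?_ huv1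
    rw [huv.mul_pow, pow_two, pow_two, mul_self_of_orderOf hu, mul_self_of_orderOf hv, one_mul]
  set u' := k * u * k⁻¹ with hu'
  set v' := k * v * k⁻¹ with hv'
  have e : k * (u * v) * k⁻¹ = u' * v' := by rw [hu', hv']; group
  have h1 := S.inverts_of_fixes hg h3 ha (by rw [orderOf_conj, hu]) (hmove u hp)
  have h2 := S.inverts_of_fixes hg h3 ha (by rw [orderOf_conj, hv]) (hmove v hvp)
  have h12 := S.inverts_of_fixes hg h3 ha (v := u' * v') (by rw [← e, orderOf_conj, huv2])
    (e ▸ hmove _ (by rw [mul_smul, hvp, hp]))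
  have hcen : u' * v' * g * (u' * v')⁻¹ = g := by
    calc u' * v' * g * (u' * v')⁻¹ = u' * (v' * g * v'⁻¹) * u'⁻¹ := by group
      _ = (u' * g * u'⁻¹)⁻¹ := by rw [h2]; group
      _ = g := by rw [h1, inv_inv]
  rw [hcen] at h12
  have hg2 : orderOf g = 2 := orderOf_eq_prime (by rw [pow_two]; exact mul_eq_one_iff_eq_inv.2 h12) hg
  have := S.fx_inv hg2
  omega

/-- A regular normal subgroup exists. -/
theorem hasRegularNormal_three : HasRegularNormal G Ω := by
  classical
  have := S.faithful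
  have := Fact.mk Nat.prime_two
  obtain ⟨t, ht⟩ := S.exists_inv
  have hzp : IsPGroup 2 (Subgroup.zpowers t) := by
    rw [IsPGroup.iff_card]
    exact ⟨1, by rw [Nat.card_zpowers, ht, pow_one]⟩
  obtain ⟨P, hP⟩ := hzp.exists_le_sylow
  have htP : t ∈ (P : Subgroup G) := hP (Subgroup.mem_zpowers t)
  have : Nontrivial (P : Subgroup G) :=
    ⟨⟨⟨t, htP⟩, 1, fun h => ne_one_of_orderOf ht (congrArg Subtype.val h)⟩⟩
  have hzn : Nontrivial (Subgroup.center ↥(P : Subgroup G)) := P.isPGroup'.center_nontrivial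
  obtain ⟨n, hn⟩ := IsPGroup.iff_card.1
    (P.isPGroup'.to_subgroup (Subgroup.center ↥(P : Subgroup G)))
  have h2dvd : 2 ∣ Nat.card (Subgroup.center ↥(P : Subgroup G)) := by
    have h1 := Finite.one_lt_card (α := Subgroup.center ↥(P : Subgroup G))
    rw [hn] at h1 ⊢
    exact dvd_pow_self 2 (fun h => by rw [h, pow_zero] at h1; omega)
  obtain ⟨⟨z, hzc⟩, hz⟩ := exists_prime_orderOf_dvd_card' 2 h2dvd
  rw [← Subgroup.orderOf_coe, ← Subgroup.orderOf_coe] at hz
  have hz' : orderOf (z : G) = 2 := hz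
  have hcomm : ∀ x : ↥(P : Subgroup G), Commute (x : G) (z : G) := fun x =>
    congrArg Subtype.val (Subgroup.mem_center_iff.1 hzc x)
  have hzt : (z : G) = t := S.eq_of_commute hg h3 hz' ht (hcomm ⟨t, htP⟩).symm
  have hiso : ∀ k : G, k * t * k⁻¹ ∈ P → k * t * k⁻¹ = t := fun k hk =>
    S.eq_of_commute hg h3 (by rw [orderOf_conj, ht]) ht (hzt ▸ hcomm ⟨_, hk⟩)
  obtain ⟨N, hNn, hNodd, hN⟩ := Cfsg.Agent.S0215.result P t ht htP hiso
  by_cases hNb : N = ⊥
  · exfalso
    have hi := S.fixity_eq_one hg h3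
    obtain ⟨⟨p, hp⟩⟩ : Nonempty {x : Ω // t • x = x} :=
      (Nat.card_pos_iff.1 (by
        rw [show Nat.card {x : Ω // t • x = x} = i from S.fx_inv ht, hi]; norm_num)).1
    have := isPretransitive_of_is_two_pretransitive (h2 := S.two)
    obtain ⟨q, hq⟩ := exists_moved (Ω := Ω) (ne_one_of_orderOf ht)
    obtain ⟨k, rfl⟩ := exists_smul_eq G p q
    have h1 := hN k
    rw [hNb, Subgroup.mem_bot, mul_inv_eq_one, mul_inv_eq_iff_eq_mul] at h1
    exact hq (by rw [← mul_smul, h1, mul_smul, hp])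
  · have : Group.IsSolvable N := Cfsg.Agent.Lib.OddOrder.FeitThompson.isSolvable_of_odd_card hNodd
    obtain ⟨A, hA, hAne, hAc⟩ := exists_abelian_normal_le hNb
    exact S.hasRegularNormal_of_comm hAne hAc

end ThreeFixed

/-- Either a regular normal subgroup, or a simple Zassenhaus group. -/
theorem regular_or_zassenhaus [Finite G] [Finite Ω] :
    HasRegularNormal G Ω ∨ (Cfsg.IsZassenhausGroup G Ω ∧ IsSimpleGroup G) := by
  classical
  have := S.faithful
  have := S.two
  have := Fintype.ofFinite Ω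
  refine or_iff_not_imp_left.2 fun hR => ?_
  have hthree : ∀ g : G, ∀ a b c : Ω, a ≠ b → b ≠ c → a ≠ c → g • a = a → g • b = b → g • c = c →
      g = 1 := by
    intro g a b c hab hbc hac ha hb hc
    by_contra hg
    exact hR (S.hasRegularNormal_three hg (S.fx_ge_three hab hbc hac ha hb hc))
  obtain ⟨t, ht⟩ := S.exists_inv
  obtain ⟨x, hx⟩ := exists_moved (Ω := Ω) (ne_one_of_orderOf ht)
  have hn2 : 2 ≤ Fintype.card Ω := Fintype.one_lt_card_iff.2 ⟨_, _, hx⟩
  have hpair : ∃ g : G, g ≠ 1 ∧ ∃ a b : Ω, a ≠ b ∧ g • a = a ∧ g • b = b := by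
    by_contra! h
    have hsharp : ∀ y : Fin 2 ↪ Ω, stabilizer G y = ⊥ := fun y => by
      rw [Subgroup.eq_bot_iff_forall]
      intro g hg
      by_contra hg1
      exact h g hg1 (y 0) (y 1) (fun e => absurd (y.injective e) (by decide))
        (congrArg (fun e : Fin 2 ↪ Ω => e 0) hg) (congrArg (fun e : Fin 2 ↪ Ω => e 1) hg)
    obtain ⟨-, -, N, -, -, -, -, hNn, -, -, hNt, hNs, -⟩ :=
      Cfsg.Agent.Lib.Perm.Sharply2.exists_kernel hsharp hn2
    exact hR (hasRegularNormal_of hNn hNs)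
  have hZ : Cfsg.IsZassenhausGroup G Ω := by
    refine ⟨S.faithful, S.two, hthree, hpair, fun N hN htr => ?_⟩
    by_contra! h
    have : IsPretransitive N Ω := htr
    exact hR (hasRegularNormal_of hN h)
  refine ⟨hZ, ?_⟩
  have : Nontrivial G := ⟨⟨t, 1, ne_one_of_orderOf ht⟩⟩
  refine ⟨fun N hN => or_iff_not_imp_left.2 fun hne => ?_⟩
  obtain ⟨-, -, a, b, hab, -, -⟩ := hpair
  have hNZ := Cfsg.Agent.S0339.result hZ N hne
  obtain ⟨w, hwa, hwb⟩ := two_apply hNZ.2.1 hab hab.symm
  have hw2 : orderOf (w : G) = 2 := S.swap a b hab w hwa hwb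
  have hinv : ∀ u : G, orderOf u = 2 → u ∈ N := fun u hu => by
    obtain ⟨k, rfl⟩ := isConj_iff.1 (S.conj _ u hw2 hu)
    exact hN.conj_mem _ w.2 k
  refine Cfsg.Agent.Lib.Zassenhaus.normal_eq_top hZ N hab fun d hd => ?_
  obtain ⟨hda, hdb⟩ := Cfsg.Agent.Lib.Zassenhaus.mem_pair_stabilizer.1 hd
  have hwd := hinv ((w : G) * d) (S.swap a b hab _ (by rw [mul_smul, hda]; exact hwa)
    (by rw [mul_smul, hdb]; exact hwb))
  simpa using N.mul_mem (N.inv_mem w.2) hwd

end Setting

end Cfsg.Agent.Lib.ConstFix25
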