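import Cfsg.Agent.Lib.ConstFix25.Basic

/-!
# The fixity is at most two

If `i ≥ 3`, every element of the centraliser `C` of an involution `u` squares to one, the pair
stabiliser of two fixed points of `u` is the stabiliser of one of them in `C` and has order `i`, and
the points other than `a` fall into classes of size `i - 1`, although there are `i ^ 2 + i - 1` of them.
-/

set_option autoImplicit false
set_option linter.unusedSectionVars false

namespace Cfsg.Agent.Lib.ConstFix25

open MulAction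

variable {G Ω : Type*} [Group G] [MulAction G Ω]

namespace Setting

variable {i : ℕ} (S : Setting G Ω i)
include S

theorem fx_inv {u : G} (hu : orderOf u = 2) : fx Ω u = i :=
  S.fix u u hu (Commute.refl u) (ne_one_of_orderOf hu)

/-- An element of `C(u)` moving a fixed point of `u` squares to one. -/
theorem sq_of_moves [Finite Ω] {u x : G} (hu : orderOf u = 2) (hxu : Commute x u) {p : Ω}
    (hup : u • p = p) (hxp : x • p ≠ p) : x * x = 1 := by
  have hx1 : x ≠ 1 := fun e => hxp (by rw [e, one_smul])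
  obtain ⟨q, hxq, huq⟩ : ∃ q, x • q = q ∧ u • q ≠ q := by
    by_contra! h
    have hss : {z : Ω | x • z = z} ⊂ {z : Ω | u • z = z} :=
      ⟨fun z hz => h z hz, fun h' => hxp (h' hup)⟩
    have hlt := Set.ncard_lt_ncard hss (Set.toFinite _)
    rw [← Nat.card_coe_set_eq, ← Nat.card_coe_set_eq] at hlt
    have h1 : Nat.card {z : Ω | x • z = z} = i := S.fix u x hu hxu hx1
    have h2 : Nat.card {z : Ω | u • z = z} = i := S.fx_inv hu
    omega
  have hxuq : x • u • q = u • q := by rw [← mul_smul, hxu.eq, mul_smul, hxq]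
  have h := S.inverts (Ne.symm huq) rfl (smul_smul_of_orderOf hu q) hxq hxuq
  have h' : u * x * u⁻¹ = x := by rw [← hxu.eq]; group
  rw [h'] at h
  exact mul_eq_one_iff_eq_inv.2 h

section Large

variable [Finite Ω] (hi : 3 ≤ i)
include hi

theorem exists_two_fixed {u : G} (hu : orderOf u = 2) (p : Ω) :
    ∃ q r : Ω, q ≠ p ∧ r ≠ p ∧ q ≠ r ∧ u • q = q ∧ u • r = r := by
  classical
  have h : 3 ≤ {z : Ω | u • z = z}.ncard := by
    rw [← Nat.card_coe_set_eq]
    exact hi.trans (S.fx_inv hu).ge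
  have h2 : 1 < ({z : Ω | u • z = z} \ {p}).ncard := by
    have := Set.pred_ncard_le_ncard_sdiff_singleton {z : Ω | u • z = z} p
    omega
  obtain ⟨q, hq, r, hr, hqr⟩ := (Set.one_lt_ncard (Set.toFinite _)).1 h2
  exact ⟨q, r, hq.2, hr.2, hqr, hq.1, hr.1⟩

/-- The centraliser of an involution has exponent two. -/
theorem sq_cent {u k : G} (hu : orderOf u = 2) (hku : Commute k u) : k * k = 1 := by
  by_cases hmove : ∃ p : Ω, u • p = p ∧ k • p ≠ p
  · obtain ⟨p, hp, hkp⟩ := hmove
    exact S.sq_of_moves hu hku hp hkp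
  push Not at hmove
  have hne : Nonempty Ω := by
    obtain ⟨x, -⟩ : ∃ x : Ω, u • x ≠ x :=
      have := S.faithful
      exists_moved (ne_one_of_orderOf hu)
    exact ⟨x⟩
  obtain ⟨a, -, -, -, -, ha, -⟩ := S.exists_two_fixed hi hu (Classical.arbitrary Ω)
  obtain ⟨b, c, hba, hca, hbc, hb, hc⟩ := S.exists_two_fixed hi hu a
  obtain ⟨x, hx2, hxa, hxb⟩ := S.exists_swap hba.symm
  obtain ⟨y, hy2, hya, hyc⟩ := S.exists_swap hca.symm
  have hxu := S.commute_swap hu hba.symm ha hb hxa hxb
  have hyu := S.commute_swap hu hca.symm ha hc hya hyc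
  have hxc : x • c ≠ a := fun e => hbc (by
    rw [← hxa, ← e, smul_smul_of_orderOf hx2 c])
  have hkx : k * x * (k * x) = 1 := S.sq_of_moves hu (hku.mul_left hxu) ha (by
    rw [mul_smul, hxa, hmove b hb]; exact hba)
  have hky : k * y * (k * y) = 1 := S.sq_of_moves hu (hku.mul_left hyu) ha (by
    rw [mul_smul, hya, hmove c hc]; exact hca)
  have hxy : x * y * (x * y) = 1 := S.sq_of_moves hu (hxu.mul_left hyu) ha (by
    rw [mul_smul, hya]; exact hxc)
  have hxcfix : u • x • c = x • c := by rw [← mul_smul, ← hxu.eq, mul_smul, hc]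
  have hkxy : k * (x * y) * (k * (x * y)) = 1 :=
    S.sq_of_moves hu (hku.mul_left (hxu.mul_left hyu)) ha (by
      rw [mul_smul, mul_smul, hya, hmove _ hxcfix]; exact hxc)
  have hx1 := mul_self_of_orderOf hx2
  have hy1 := mul_self_of_orderOf hy2
  -- both swaps invert `k`, so their product centralises it
  have ex : x * k = k⁻¹ * x := by
    calc x * k = k⁻¹ * (k * x * (k * x)) * x⁻¹ := by group
      _ = k⁻¹ * x := by rw [hkx, inv_eq_of_mul_eq_one_right hx1]; group
  have ey : y * k = k⁻¹ * y := by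
    calc y * k = k⁻¹ * (k * y * (k * y)) * y⁻¹ := by group
      _ = k⁻¹ * y := by rw [hky, inv_eq_of_mul_eq_one_right hy1]; group
  have ex' : x * k⁻¹ = k * x := by
    calc x * k⁻¹ = k * (k⁻¹ * x) * k⁻¹ := by group
      _ = k * (x * k) * k⁻¹ := by rw [ex]
      _ = k * x := by group
  have exy : x * y * k = k * (x * y) := by
    rw [mul_assoc, ey, ← mul_assoc, ex', mul_assoc]
  calc k * k = k * k * (x * y * (x * y)) := by rw [hxy, mul_one]
    _ = k * (x * y * k) * (x * y) := by rw [exy]; group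
    _ = k * (x * y) * (k * (x * y)) := by group
    _ = 1 := hkxy

theorem comm_cent {u g h : G} (hu : orderOf u = 2) (hg : Commute g u) (hh : Commute h u) :
    g * h = h * g := by
  have h1 : g⁻¹ = g := inv_eq_of_mul_eq_one_right (S.sq_cent hi hu hg)
  have h2 : h⁻¹ = h := inv_eq_of_mul_eq_one_right (S.sq_cent hi hu hh)
  have h3 : (g * h)⁻¹ = g * h := inv_eq_of_mul_eq_one_right (S.sq_cent hi hu (hg.mul_left hh))
  rw [← h3, mul_inv_rev, h1, h2]

/-- The pair stabiliser of two fixed points of `u` is the stabiliser of one of them in `C(u)`. -/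
theorem mem_pair_iff {u : G} (hu : orderOf u = 2) {a b : Ω} (hab : a ≠ b) (hua : u • a = a)
    (hub : u • b = b) (g : G) :
    g ∈ stabilizer G a ⊓ stabilizer G b ↔ Commute g u ∧ g • a = a := by
  rw [Subgroup.mem_inf, mem_stabilizer_iff, mem_stabilizer_iff]
  refine ⟨fun h => ⟨S.pair_comm hab h.1 h.2 hua hub, h.1⟩, fun h => ⟨h.2, ?_⟩⟩
  obtain ⟨w, -, hwa, hwb⟩ := S.exists_swap hab
  have hwu := S.commute_swap hu hab hua hub hwa hwb
  rw [← hwa, ← mul_smul, S.comm_cent hi hu h.1 hwu, mul_smul, h.2]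

/-- `|C(u)| = i * d`. -/
theorem card_cent_eq_mul [Finite G] {u : G} (hu : orderOf u = 2) {a b : Ω} (hab : a ≠ b)
    (hua : u • a = a) (hub : u • b = b) :
    Nat.card ↥(Subgroup.centralizer ({u} : Set G))
      = i * Nat.card ↥(stabilizer G a ⊓ stabilizer G b) := by
  classical
  set C := Subgroup.centralizer ({u} : Set G)
  have hmemC : ∀ g : G, g ∈ C ↔ Commute g u := fun g => Subgroup.mem_centralizer_singleton_iff
  have := Fintype.ofFinite {p : Ω // u • p = p}
  let f : C → {p : Ω // u • p = p} := fun g => ⟨(g : G) • a, by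
    rw [← mul_smul, ← ((hmemC g).1 g.2).eq, mul_smul, hua]⟩
  rw [← Nat.card_congr (Equiv.sigmaFiberEquiv f), Nat.card_sigma]
  have hfib : ∀ y, Nat.card {g : C // f g = y}
      = Nat.card ↥(stabilizer G a ⊓ stabilizer G b) := by
    rintro ⟨p, hp⟩
    obtain ⟨w, hwu, hwa⟩ : ∃ w : G, Commute w u ∧ w • a = p := by
      by_cases hpa : p = a
      · exact ⟨1, Commute.one_left u, by rw [one_smul, hpa]⟩
      obtain ⟨w, -, hwa, hwb⟩ := S.exists_swap (Ne.symm hpa)
      exact ⟨w, S.commute_swap hu (Ne.symm hpa) hua hp hwa hwb, hwa⟩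
    refine Nat.card_congr
      { toFun := fun g => ⟨w⁻¹ * g.1.1, (S.mem_pair_iff hi hu hab hua hub _).2
          ⟨hwu.inv_left.mul_left ((hmemC _).1 g.1.2), by
            rw [mul_smul, inv_smul_eq_iff, hwa]; exact congrArg Subtype.val g.2⟩⟩
        invFun := fun g => ⟨⟨w * g.1, (hmemC _).2
            (hwu.mul_left ((S.mem_pair_iff hi hu hab hua hub _).1 g.2).1)⟩, Subtype.ext (by
              show (w * g.1) • a = p
              rw [mul_smul, ((S.mem_pair_iff hi hu hab hua hub _).1 g.2).2, hwa])⟩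
        left_inv := fun g => Subtype.ext (Subtype.ext (by simp))
        right_inv := fun g => Subtype.ext (by simp) }
  simp only [hfib, Finset.sum_const, Finset.card_univ, smul_eq_mul, ← Nat.card_eq_fintype_card]
  rw [← S.fx_inv hu, fx]

/-- The pair stabilisers have order `i`. -/
theorem card_pair_eq_fx [Finite G] {u : G} (hu : orderOf u = 2) {a b : Ω} (hab : a ≠ b)
    (hua : u • a = a) (hub : u • b = b) :
    Nat.card ↥(stabilizer G a ⊓ stabilizer G b) = i := by
  classical
  have := Fintype.ofFinite G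
  have := Fintype.ofFinite Ω
  set d := Nat.card ↥(stabilizer G a ⊓ stabilizer G b) with hd
  let T := {x : G // orderOf x = 2}
  let P := {p : Ω × Ω // p.1 ≠ p.2}
  have hTc : Nat.card T * (i * d) = Nat.card P * d := by
    rw [← S.card_cent_eq_mul hi hu hab hua hub]
    exact S.card_involutions_mul hu hab
  have hsq : ∀ p q : Ω, p ≠ q → ∀ g : G, g • p = p → g • q = q → g * g = 1 := by
    intro p q hpq g hgp hgq
    obtain ⟨k, hka, hkb⟩ := two_apply S.two hab hpq
    have hm : k⁻¹ * g * k ∈ stabilizer G a ⊓ stabilizer G b := by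
      simp only [Subgroup.mem_inf, mem_stabilizer_iff, mul_smul, inv_smul_eq_iff, hka, hkb, hgp,
        hgq, and_self]
    have h := S.sq_cent hi hu ((S.mem_pair_iff hi hu hab hua hub _).1 hm).1
    calc g * g = k * (k⁻¹ * g * k * (k⁻¹ * g * k)) * k⁻¹ := by group
      _ = 1 := by rw [h]; group
  let e : (Σ x : T, {y : {p : Ω // (x : G) • p = p} × {p : Ω // (x : G) • p = p} // y.1 ≠ y.2}) ≃
      (Σ y : P, {x : ↥(stabilizer G y.1.1 ⊓ stabilizer G y.1.2) // x ≠ 1}) :=
    { toFun := fun s => ⟨⟨(s.2.1.1.1, s.2.1.2.1), fun h => s.2.2 (Subtype.ext h)⟩,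
        ⟨s.1.1, Subgroup.mem_inf.2 ⟨s.2.1.1.2, s.2.1.2.2⟩⟩,
        fun h => ne_one_of_orderOf s.1.2 (congrArg Subtype.val h)⟩
      invFun := fun s => ⟨⟨s.2.1.1, by
          refine orderOf_eq_prime ?_ fun h => s.2.2 (Subtype.ext h)
          rw [pow_two]
          exact hsq _ _ s.1.2 _ (Subgroup.mem_inf.1 s.2.1.2).1 (Subgroup.mem_inf.1 s.2.1.2).2⟩,
        (⟨s.1.1.1, (Subgroup.mem_inf.1 s.2.1.2).1⟩, ⟨s.1.1.2, (Subgroup.mem_inf.1 s.2.1.2).2⟩),
        fun h => s.1.2 (congrArg Subtype.val h)⟩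
      left_inv := fun s => rfl
      right_inv := fun s => rfl }
  have hcount := Nat.card_congr e
  have := Fintype.ofFinite T
  rw [Nat.card_sigma, Nat.card_sigma] at hcount
  have hL : ∀ x : T, Nat.card {y : {p : Ω // (x : G) • p = p} × {p : Ω // (x : G) • p = p} //
      y.1 ≠ y.2} = i * (i - 1) := fun x => by
    rw [card_offDiag, show Nat.card {p : Ω // (x : G) • p = p} = i from S.fx_inv x.2]
  have hR : ∀ y : P, Nat.card {x : ↥(stabilizer G y.1.1 ⊓ stabilizer G y.1.2) // x ≠ 1} = d - 1 :=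
    fun y => by
      rw [hd, ← card_pair_eq S.two y.2 hab, Nat.card_eq_fintype_card, Nat.card_eq_fintype_card,
        Fintype.card_subtype_compl, Fintype.card_subtype_eq]
  simp only [hL, hR, Finset.sum_const, Finset.card_univ, smul_eq_mul,
    ← Nat.card_eq_fintype_card] at hcount
  have hdpos : 0 < d := Nat.card_pos
  have hTP : Nat.card T * i = Nat.card P := by
    rw [← mul_assoc] at hTc
    exact Nat.eq_of_mul_eq_mul_right hdpos hTc
  rw [← hTP, mul_assoc] at hcount
  have hTpos : 0 < Nat.card T :=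
    have : Nonempty T := ⟨⟨u, hu⟩⟩
    Nat.card_pos
  have := Nat.eq_of_mul_eq_mul_left (by omega : 0 < i) (Nat.eq_of_mul_eq_mul_left hTpos hcount)
  omega

theorem not_large [Finite G] : False := by
  classical
  have := S.faithful
  have := Fintype.ofFinite Ω
  obtain ⟨t, ht⟩ := S.exists_inv
  obtain ⟨a0, -⟩ := exists_moved (Ω := Ω) (ne_one_of_orderOf ht)
  obtain ⟨a, -, -, -, -, hta, -⟩ := S.exists_two_fixed hi ht a0
  obtain ⟨b, -, hba, -, -, htb, -⟩ := S.exists_two_fixed hi ht a
  have hn : Nat.card Ω = i * i + i := by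
    have h := S.card_cent t ht
    rw [S.card_cent_eq_mul hi ht hba.symm hta htb, S.card_pair_eq_fx hi ht hba.symm hta htb] at h
    omega
  let f : {x : Ω // x ≠ a} → Subgroup G := fun x => stabilizer G a ⊓ stabilizer G x.1
  have hfib : ∀ y ∈ Finset.univ.image f,
      ((Finset.univ : Finset {x : Ω // x ≠ a}).filter fun x => f x = y).card = i - 1 := by
    intro y hy
    obtain ⟨⟨x, hxa⟩, -, rfl⟩ := Finset.mem_image.1 hy
    -- an involution fixing `a` and `x`
    obtain ⟨k, hka, hkb⟩ := two_apply S.two hba.symm (Ne.symm hxa)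
    have hu : orderOf (k * t * k⁻¹) = 2 := by rw [orderOf_conj, ht]
    have hua : (k * t * k⁻¹) • a = a := by
      conv_lhs => rw [← hka, mul_smul, mul_smul, inv_smul_smul, hta, hka]
    have hux : (k * t * k⁻¹) • x = x := by
      conv_lhs => rw [← hkb, mul_smul, mul_smul, inv_smul_smul, htb, hkb]
    set u := k * t * k⁻¹
    have hiff : ∀ z : {z : Ω // z ≠ a}, f z = f ⟨x, hxa⟩ ↔ u • z.1 = z.1 := by
      intro z
      constructor
      · intro h
        have : u ∈ f z := h ▸ Subgroup.mem_inf.2 ⟨hua, hux⟩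
        exact (Subgroup.mem_inf.1 this).2
      · intro h
        ext g
        exact (S.mem_pair_iff hi hu (Ne.symm z.2) hua h g).trans
          (S.mem_pair_iff hi hu (Ne.symm hxa) hua hux g).symm
    rw [Finset.filter_congr fun z _ => hiff z]
    have hset : ((Finset.univ : Finset {x : Ω // x ≠ a}).filter fun z => u • z.1 = z.1).card
        = (((Finset.univ : Finset Ω).filter fun z => u • z = z).erase a).card := by
      rw [← Finset.card_map (Function.Embedding.subtype _)]
      congr 1
      ext z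
      simp [and_comm]
    rw [hset, Finset.card_erase_of_mem (by simp [hua]), ← Fintype.card_subtype,
      ← Nat.card_eq_fintype_card, show Nat.card {z : Ω // u • z = z} = i from S.fx_inv hu]
  have hsum := Finset.card_eq_sum_card_image f Finset.univ
  rw [Finset.sum_congr rfl hfib, Finset.sum_const, smul_eq_mul, Finset.card_univ,
    Fintype.card_subtype_compl, Fintype.card_subtype_eq, ← Nat.card_eq_fintype_card, hn] at hsum
  obtain ⟨j, rfl⟩ : ∃ j, i = j + 1 := ⟨i - 1, by omega⟩
  rw [Nat.add_sub_cancel] at hsum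
  have hsplit : (j + 1) * (j + 1) + (j + 1) - 1 = j * (j + 3) + 1 :=
    Nat.sub_eq_of_eq_add (by ring)
  rw [hsplit] at hsum
  have hdvd : j ∣ j * (j + 3) + 1 := ⟨_, by rw [hsum, mul_comm]⟩
  rw [Nat.dvd_add_right (dvd_mul_right j _), Nat.dvd_one] at hdvd
  omega

end Large

/-- The fixity is at most two. -/
theorem le_two [Finite G] [Finite Ω] : i ≤ 2 := by
  by_contra h
  exact S.not_large (by omega)

end Setting

end Cfsg.Agent.Lib.ConstFix25
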